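import Cfsg.Agent.FPF.Fam
import Cfsg.Agent.FPF.Basic
import Cfsg.Agent.Solv.CoprimeAbelian
import Cfsg.Agent.Solv.Glauberman

/-! Compatible families of blocks with tori: the set of commutators. -/

set_option autoImplicit false
set_option linter.unusedSectionVars false

open scoped commutatorElement Pointwise

namespace Cfsg.Lib.FPF

open Cfsg Subgroup Cfsg.Lib.Trans Cfsg.Lib.Trans.TJ Cfsg.Lib.Gold Cfsg.Lib.Solv

universe u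

variable {Γ : Type u} [Group Γ]

/-- A generator of the torus of a block. -/
structure Tor (G B W K : Subgroup Γ) (h : Γ) : Prop where
  mem : h ∈ G
  odd : Odd (orderOf h)
  nW : h ∈ Ns W
  nB : h ∈ Ns (B ⊔ Cs W)
  cK : h ∈ Cs K
  t1 : ∀ u ∈ ⁅W, B⁆, u ∉ K → ∀ u' ∈ ⁅W, B⁆, u' ∉ K → ∃ n : ℕ, h ^ n * u * (h ^ n)⁻¹ * u'⁻¹ ∈ K
  t2 : ∀ w ∈ W, w ∉ Cs B → ∀ w' ∈ W, w' ∉ Cs B → ∃ n : ℕ, h ^ n * w * (h ^ n)⁻¹ * w'⁻¹ ∈ Cs B

/-- The non-degenerate commutators of a block. -/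
def Sg (J W : Subgroup Γ) : Set Γ := {x | ∃ b ∈ J, b ∉ Cs W ∧ ∃ w ∈ W, w ∉ Cs J ∧ x = ⁅b, w⁆}

theorem Sg_eq_1' : type_of% @Sg.eq_1 := @Sg.eq_1

variable {G J W K A O : Subgroup Γ} {t : Γ}

theorem exists_mul_Cs (n : J ≤ Ns W) {x : Γ} (hx : x ∈ J ⊔ Cs W) :
    ∃ b ∈ J, ∃ c ∈ Cs W, x = b * c := by
  rw [sup_comm] at hx
  obtain ⟨c, hc, b, hb, rfl⟩ := exists_mul_of_mem_sup_of_le_normalizer
    (le_Ns_Cs n) hx
  exact ⟨b, hb, b⁻¹ * c * b, mem_normalizer_conj'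
    (mem_Ns_Cs (n hb)) hc, by group⟩

theorem conj_comm (g a b : Γ) : g * ⁅a, b⁆ * g⁻¹ = ⁅g * a * g⁻¹, g * b * g⁻¹⁆ := by
  simp only [commutatorElement_def]; group

theorem comm_sup_Cs (n : J ≤ Ns W) : ⁅W, J ⊔ Cs W⁆ = ⁅W, J⁆ := by
  refine le_antisymm (commutator_le.2 fun w hw x hx => ?_) (commutator_mono le_rfl le_sup_left)
  obtain ⟨b, hb, c, hc, rfl⟩ := exists_mul_Cs n hx
  rw [CF.comm_mul_of_right (hc w hw)]
  exact commutator_mem_commutator hw hb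

theorem Sg_conj (n : J ≤ Ns W) {g : Γ} (h1 : g ∈ Ns W) (h2 : g ∈ Ns (J ⊔ Cs W))
    {x : Γ} (hx : x ∈ Sg J W) : g * x * g⁻¹ ∈ Sg J W := by
  obtain ⟨b, hb, hb', w, hw, hw', rfl⟩ := hx
  obtain ⟨b1, hb1, c, hc, e⟩ := exists_mul_Cs n (mem_normalizer_conj h2 (mem_sup_left hb))
  have h3 := mem_normalizer_conj h1 hw
  refine ⟨b1, hb1, fun h => hb' ?_, _, h3, fun h => hw' ?_, ?_⟩
  · have h4 := mem_normalizer_conj' (mem_Ns_Cs h1) (mul_mem h hc)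
    rw [← e] at h4
    simpa [mul_assoc] using h4
  · have h4 : g * w * g⁻¹ ∈ Cs (J ⊔ Cs W) := by
      rw [← zpowers_le, le_Cs_comm]
      exact sup_le (le_Cs_comm.1 (zpowers_le.2 h)) (Cs_anti (zpowers_le.2 h3))
    exact Cs_anti le_sup_left (by
      simpa [mul_assoc] using mem_normalizer_conj' (mem_Ns_Cs h2) h4)
  · rw [conj_comm, e, CF.comm_mul_of_left (hc _ h3)]

theorem Tor.nR (h : Tor G J W K t) (n : J ≤ Ns W) : t ∈ Ns ⁅W, J⁆ := by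
  rw [← comm_sup_Cs n]
  exact normalizer_le_normalizer_commutator _ _ ⟨h.nW, h.nB⟩

namespace CF

variable {ι : Type*} {Wf Kf : ι → Subgroup Γ} {i j k : ι}

theorem ab (h : CF J Wf Kf) (i : ι) : Wf i ≤ Cs (Wf i) := le_sup_left.trans (h.cls_le_Cs i)

theorem R_le (h : CF J Wf Kf) (i : ι) : ⁅Wf i, J⁆ ≤ J ⊓ Cs J :=
  le_inf ((commutator_mono (h.le i) le_rfl).trans (commutator_le_self J)) (h.quad i)

theorem Sg_R {x : Γ} (hx : x ∈ Sg J W) : x ∈ ⁅W, J⁆ := by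
  obtain ⟨b, hb, -, w, hw, -, rfl⟩ := hx
  rw [commutator_comm]
  exact commutator_mem_commutator hb hw

theorem Sg_K (h : CF J Wf Kf) {x : Γ} (hx : x ∈ Sg J (Wf i)) : x ∉ Kf i := by
  obtain ⟨b, hb, hb', w, hw, hw', rfl⟩ := hx
  exact fun e => hw' (h.reg i b hb hb' w hw e)

theorem Sg_ne (h : CF J Wf Kf) (i : ι) : ∃ x, x ∈ Sg J (Wf i) := by
  obtain ⟨w, hw, hw'⟩ := h.exists_not i
  obtain ⟨j, m⟩ := h.mate i
  obtain ⟨b, hb, hb'⟩ := SetLike.not_le_iff_exists.1 m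
  exact ⟨_, b, h.le j hb, hb', w, hw, hw', rfl⟩

theorem Sg_le (h : CF J Wf Kf) (e : ⁅Wf i, J⁆ = ⁅Wf j, J⁆) {x : Γ} (hx : x ∈ Sg J (Wf i)) :
    x ∈ Sg J (Wf j) := by
  obtain ⟨b, hb, hb', w, hw, hw', rfl⟩ := hx
  by_cases m : Wf j ≤ Cs (Wf i)
  · have e1 := h.cls_eq_of_eq e m
    obtain ⟨z, hz, w', hw1, e2⟩ := exists_mul_of_mem_sup_of_le_normalizer
      ((h.le j).trans (le_normalizer.trans (normalizer_le_normalizer_omegaOne_center J)))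
      (show w ∈ omegaOneCenter 2 J ⊔ Wf j by rw [sup_comm]; exact e1.le (mem_sup_left hw))
    have hz' := oc_le_Cs hz
    refine ⟨b, hb, fun hc => hb' ?_, w', hw1, fun hc => hw' (e2 ▸ mul_mem hz' hc), ?_⟩
    · rw [← zpowers_le, le_Cs_comm] at hc ⊢
      exact le_sup_left.trans (e1.le.trans
        (sup_le hc (oc_le_Cs.trans (Cs_anti (zpowers_le.2 hb)))))
    · rw [← e2, ← hz' w' (h.le j hw1), comm_mul_of_right (hz' b hb)]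
  · obtain ⟨w', hw1, hc⟩ := h.dec i j m b hb
    refine ⟨w, h.le i hw, fun e => hw' (h.cent (symm m) hw e), w', hw1,
      fun e => hb' (by simpa using mul_mem (h.cs i e) hc), ?_⟩
    rw [← mul_inv_cancel_left w' b, comm_mul_of_left (hc w hw), ← sq_eq_comm (h.sq hw1) (h.sq hw),
      ← sq_eq_comm (h.sq hw) (h.sq hw1)]
    have h1 := h.quad i (commutator_mem_commutator hw (h.le j hw1)) w' (h.le j hw1)
    rw [← sq_eq_comm (h.sq hw) (h.sq hw1)] at h1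
    calc w' * w * (w' * w) = w' * w * (w' * w) * (w' * w') := by rw [h.sq hw1, mul_one]
      _ = w' * (w * w' * (w * w')) * w' := by group
      _ = w * w' * (w * w') * (w' * w') := by rw [h1]; group
      _ = _ := by rw [h.sq hw1, mul_one]

variable [Finite Γ]

/-- The commutators fill the complement of at most two subgroups. -/
theorem shape (h : CF J Wf Kf) (pJ : IsPGroup 2 J) (ht : Tor G J (Wf i) (Kf i) t) :
    (∀ u ∈ ⁅Wf i, J⁆, u ∉ Kf i → u ∈ Sg J (Wf i)) ∨ ∃ F ≤ ⁅Wf i, J⁆, F ⊓ Kf i = ⊥ ∧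
      (∀ f ∈ F, f ≠ 1 → ∀ f' ∈ F, f' ≠ 1 → ∃ n : ℕ, t ^ n * f * (t ^ n)⁻¹ = f') ∧
      (∀ u ∈ ⁅Wf i, J⁆, ∃ r ∈ ⁅Wf i, J⁆ ⊓ Kf i, ∃ f ∈ F, u = r * f) ∧
      ∀ u ∈ ⁅Wf i, J⁆, u ∉ Kf i → u ∉ F → u ∈ Sg J (Wf i) := by
  have := Fact.mk Nat.prime_two
  set R := ⁅Wf i, J⁆ with hR
  have hRZ : R ≤ J ⊓ Cs J := h.R_le i
  have cm : ∀ x ∈ R, ∀ y ∈ R, x * y = y * x := fun x hx y hy => (hRZ hy).2 x (hRZ hx).1
  have : IsMulCommutative R := ⟨⟨fun x y => Subtype.ext (cm _ x.2 _ y.2)⟩⟩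
  have nH : zpowers t ≤ Ns R := zpowers_le.2 (ht.nR (h.nW i))
  have cop : (Nat.card (zpowers t)).Coprime (Nat.card R) := by
    obtain ⟨k, hk⟩ := (pJ.to_le (hRZ.trans inf_le_left)).exists_card_eq
    rw [Nat.card_zpowers, hk]
    exact (Nat.coprime_two_right.2 ht.odd).pow_right k
  set F := ⁅R, zpowers t⁆ with hF
  have FR : F ≤ R := commutator_le_left_of_le_normalizer nH
  obtain ⟨w0, hw0, hw0'⟩ := h.exists_not i
  have cz : ∀ b ∈ J, ⁅b, w0⁆ ∈ R := fun b hb => by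
    rw [hR, commutator_comm]; exact commutator_mem_commutator hb hw0
  let φ : J →* Γ := MonoidHom.mk' (fun b => ⁅(b : Γ), w0⁆) fun a b => by
    have := (hRZ (cz b b.2)).2 a a.2
    calc ⁅(a : Γ) * b, w0⁆ = a * ⁅(b : Γ), w0⁆ * (a : Γ)⁻¹ * ⁅(a : Γ), w0⁆ := by
          simp only [commutatorElement_def]; group
      _ = _ := by rw [this, mul_inv_cancel_right, cm _ (cz b b.2) _ (cz a a.2)]
  have CR : φ.range ≤ R := by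
    rintro _ ⟨b, rfl⟩; exact cz b b.2
  have CS : ∀ c ∈ φ.range, c ≠ 1 → c ∈ Sg J (Wf i) := by
    rintro _ ⟨b, rfl⟩ hc
    exact ⟨b, b.2, fun e => hc (commutatorElement_eq_one_iff_mul_comm.2 (e w0 hw0).symm), w0, hw0,
      hw0', rfl⟩
  have gen : R ≤ F ⊔ φ.range := commutator_le.2 fun w hw b hb => by
    rw [← commutatorElement_inv]
    refine inv_mem ?_
    by_cases hw' : w ∈ Cs J
    · rw [commutatorElement_eq_one_iff_mul_comm.2 (hw' b hb)]; exact one_mem _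
    obtain ⟨n, hn⟩ := ht.t2 w0 hw0 hw0' w hw hw'
    obtain ⟨b1, hb1, c, hc, e⟩ := exists_mul_Cs (h.nW i)
      (mem_normalizer_conj' (pow_mem ht.nB n) (mem_sup_left hb))
    have e1 : ⁅b, w⁆ = t ^ n * ⁅b1, w0⁆ * (t ^ n)⁻¹ := by
      rw [← comm_mul_of_left (hc w0 hw0), ← e, conj_comm, ← comm_mul_of_right (hn b hb),
        hn w (h.le i hw)]
      congr 1 <;> group
    have e2 : ⁅b, w⁆ = ⁅⁅b1, w0⁆, t ^ n⁆⁻¹ * ⁅b1, w0⁆ := by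
      rw [e1, commutatorElement_inv, commutatorElement_def (t ^ n)]; group
    rw [e2]
    exact mul_mem (mem_sup_left (inv_mem (commutator_mem_commutator (cz b1 hb1)
      (npow_mem_zpowers t n)))) (mem_sup_right ⟨⟨b1, hb1⟩, rfl⟩)
  have KC : R ⊓ Kf i ≤ Cs (zpowers t) := inf_le_right.trans (le_Cs_comm.1 (zpowers_le.2 ht.cK))
  by_cases hc : R ≤ Cs (zpowers t)
  · refine Or.inl fun u hu hu' => CS u ?_ fun e => hu' (e ▸ one_mem _)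
    have := gen hu
    rwa [hF, commutator_eq_bot_iff_le_centralizer.2 hc, bot_sup_eq] at this
  have CK : R ⊓ Cs (zpowers t) ≤ Kf i := fun u hu => by
    by_contra hu'
    refine hc fun u' h1 => ?_
    by_cases h2 : u' ∈ Kf i
    · exact KC ⟨h1, h2⟩
    obtain ⟨n, hn⟩ := ht.t1 u hu.1 hu' u' h1 h2
    rw [hu.2 _ (npow_mem_zpowers t n), mul_inv_cancel_right] at hn
    simpa using mul_mem (inv_mem (KC (mem_inf.2 ⟨mul_mem hu.1 (inv_mem h1), hn⟩))) (mem_inf.1 hu).2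
  have FK : F ⊓ Kf i = ⊥ := le_bot_iff.1 (by
    rw [← Coprime.centralizer_inf_commutator_eq_bot nH cop]
    exact fun x hx => ⟨⟨FR hx.1, KC ⟨FR hx.1, hx.2⟩⟩, hx.1⟩)
  have nK : ∀ f ∈ F, f ≠ 1 → f ∉ Kf i := fun f hf h1 h2 => h1 (mem_bot.1 (FK.le ⟨hf, h2⟩))
  have tr : ∀ f ∈ F, f ≠ 1 → ∀ f' ∈ F, f' ≠ 1 → ∃ n : ℕ, t ^ n * f * (t ^ n)⁻¹ = f' :=
    fun f hf h1 f' hf' h2 => by
      obtain ⟨n, hn⟩ := ht.t1 f (FR hf) (nK f hf h1) f' (FR hf') (nK f' hf' h2)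
      have h3 : t ^ n ∈ Ns F := normalizer_le_normalizer_commutator _ _
        ⟨nH (npow_mem_zpowers t n), le_normalizer (npow_mem_zpowers t n)⟩
      exact ⟨n, mul_inv_eq_one.1 (mem_bot.1 (FK.le
        (mem_inf.2 ⟨mul_mem (mem_normalizer_conj h3 hf) (inv_mem hf'), hn⟩)))⟩
  have nF : R ≤ Ns F := Coprime.le_normalizer_of_le_of_comm FR
  have dec : ∀ u ∈ R, ∃ r ∈ R ⊓ Kf i, ∃ f ∈ F, u = r * f := fun u hu => by
    rw [← Coprime.centralizer_sup_commutator_of_comm nH cop, sup_comm] at hu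
    obtain ⟨f, hf, r, hr, rfl⟩ :=
      exists_mul_of_mem_sup_of_le_normalizer (inf_le_left.trans nF) hu
    exact ⟨r, ⟨hr.1, CK hr⟩, f, hf, cm _ (FR hf) _ hr.1⟩
  refine Or.inr ⟨F, FR, FK, tr, dec, fun u hu h1 h2 => ?_⟩
  obtain ⟨r, hr, f, hf, rfl⟩ := dec u hu
  obtain ⟨f1, hf1, c, hc1, e⟩ := exists_mul_of_mem_sup_of_le_normalizer (CR.trans nF) (gen hr.1)
  have h3 := CS c hc1 fun e1 => h2 (mul_mem (by rwa [← e, e1, mul_one]) hf)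
  obtain ⟨n, hn⟩ := tr f1⁻¹ (inv_mem hf1) (fun e1 => h.Sg_K h3 (by
    rw [inv_eq_one.1 e1, one_mul] at e; exact e ▸ hr.2)) f hf fun e1 => h1 (by
      rw [e1, mul_one]; exact hr.2)
  have h4 := Sg_conj (h.nW i) (pow_mem ht.nW n) (pow_mem ht.nB n) h3
  have h5 := KC hr _ (npow_mem_zpowers t n)
  convert h4 using 1
  rw [← hn, eq_inv_mul_of_mul_eq e, cm _ (inv_mem (FR hf1)) _ hr.1, ← mul_assoc (t ^ n), h5]
  group

theorem le_or_le {U V V' : Subgroup Γ} (h : ∀ x ∈ U, x ∈ V ∨ x ∈ V') : U ≤ V ∨ U ≤ V' := by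
  by_contra hn
  push Not at hn
  obtain ⟨a, ha, ha'⟩ := SetLike.not_le_iff_exists.1 hn.1
  obtain ⟨b, hb, hb'⟩ := SetLike.not_le_iff_exists.1 hn.2
  rcases h _ (mul_mem ha hb) with e | e
  · exact ha' (by simpa using mul_mem e (inv_mem ((h b hb).resolve_right hb')))
  · exact hb' (by simpa using mul_mem (inv_mem ((h a ha).resolve_left ha')) e)

theorem cross (h : CF J Wf Kf) (pJ : IsPGroup 2 J) {t' : Γ} (ht : Tor G J (Wf i) (Kf i) t)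
    (ht' : Tor G J (Wf j) (Kf j) t') (e : ⁅Wf i, J⁆ = ⁅Wf j, J⁆)
    (ne : ¬ ⁅Wf i, J⁆ ⊓ Kf j ≤ Kf i) {x y : Γ} (hx : x ∈ Sg J (Wf i)) (hy : y ∈ Sg J (Wf i)) :
    ∃ n m : ℕ, t ^ n * t' ^ m * x * (t ^ n * t' ^ m)⁻¹ = y := by
  set R := ⁅Wf i, J⁆ with hR
  have Sj : ∀ u ∈ Sg J (Wf i), u ∉ Kf j := fun u hu => h.Sg_K (h.Sg_le e hu)
  have Si : ∀ u ∈ Sg J (Wf j), u ∉ Kf i := fun u hu => h.Sg_K (h.Sg_le e.symm hu)
  have pw : ∀ u ∈ Sg J (Wf i), ∀ n : ℕ, (t ^ n)⁻¹ * u * (t ^ n)⁻¹⁻¹ ∈ Sg J (Wf i) := fun u hu n =>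
    Sg_conj (h.nW i) (inv_mem (pow_mem ht.nW n)) (inv_mem (pow_mem ht.nB n)) hu
  obtain ⟨a, ha, ha'⟩ := SetLike.not_le_iff_exists.1 ne
  have a1 : a ≠ 1 := fun e1 => ha' (e1 ▸ one_mem _)
  obtain h1 | ⟨F, FR, FK, tr, dec, sg⟩ := h.shape pJ ht
  · exact absurd ha.2 (Sj a (h1 a ha.1 ha'))
  have h2 : R ⊓ Kf j ≤ F := (le_or_le fun u hu => by
    by_contra hn
    push Not at hn
    exact Sj u (sg u hu.1 hn.1 hn.2) hu.2).resolve_left ne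
  have h3 : ∀ f ∈ F, f ∉ Sg J (Wf i) := fun f hf hs => by
    obtain ⟨n, hn⟩ := tr a (h2 ha) a1 f hf fun e1 => h.Sg_K hs (e1 ▸ one_mem _)
    have := pw f hs n
    rw [← hn] at this
    exact Sj a (by simpa [mul_assoc] using this) ha.2
  have ne' : ¬ R ⊓ Kf i ≤ Kf j := fun le => by
    obtain ⟨r, hr, f, hf, rfl⟩ := dec x (Sg_R hx)
    have : r ∈ F ⊓ Kf i := ⟨h2 ⟨hr.1, le hr⟩, hr.2⟩
    rw [FK, mem_bot] at this
    exact h3 _ (by rwa [this, one_mul]) hx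
  obtain ⟨b, hb, hb'⟩ := SetLike.not_le_iff_exists.1 ne'
  obtain h1 | ⟨F', FR', FK', tr', -, sg'⟩ := h.shape pJ ht'
  · exact absurd hb.2 (Si b (h1 b (e ▸ hb.1) hb'))
  have h4 : R ⊓ Kf i ≤ F' := (le_or_le fun u hu => by
    by_contra hn
    push Not at hn
    exact Si u (sg' u (e ▸ hu.1) hn.1 hn.2) hu.2).resolve_left ne'
  have h5 : F ≤ Kf j := (le_or_le fun u hu => by
    by_contra hn
    push Not at hn
    exact h3 u hu (h.Sg_le e.symm (sg' u (e ▸ FR hu) hn.1 hn.2))).resolve_right fun le =>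
      a1 (mem_bot.1 (FK'.le ⟨le (h2 ha), ha.2⟩))
  obtain ⟨r, hr, f, hf, rfl⟩ := dec x (Sg_R hx)
  obtain ⟨r', hr', f', hf', rfl⟩ := dec y (Sg_R hy)
  have n1 : ∀ r f : Γ, f ∈ F → r * f ∈ Sg J (Wf i) → r ≠ 1 := fun r f hf hs e1 =>
    h3 _ (by rwa [e1, one_mul]) hs
  have n2 : ∀ r f : Γ, r ∈ R ⊓ Kf i → r * f ∈ Sg J (Wf i) → f ≠ 1 := fun r f hr hs e1 =>
    h.Sg_K hs (by rw [e1, mul_one]; exact hr.2)
  obtain ⟨n, hn⟩ := tr f hf (n2 r f hr hx) f' hf' (n2 r' f' hr' hy)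
  obtain ⟨m, hm⟩ := tr' r (h4 hr) (n1 r f hf hx) r' (h4 hr') (n1 r' f' hf' hy)
  refine ⟨n, m, ?_⟩
  have c1 := pow_mem ht'.cK m f (h5 hf)
  have c2 := pow_mem ht.cK n r' hr'.2
  calc t ^ n * t' ^ m * (r * f) * (t ^ n * t' ^ m)⁻¹
      = t ^ n * (t' ^ m * r * (t' ^ m)⁻¹) * (t' ^ m * f) * (t' ^ m)⁻¹ * (t ^ n)⁻¹ := by group
    _ = t ^ n * r' * f * (t ^ n)⁻¹ := by rw [hm, ← c1]; group
    _ = _ := by rw [← c2, ← hn]; group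

/-- Transitivity on the commutators modulo the common kernel. -/
theorem trans (h : CF J Wf Kf) (pJ : IsPGroup 2 J) (tor : ∀ i, ∃ t, Tor G J (Wf i) (Kf i) t)
    {x y : Γ} (hx : x ∈ Sg J (Wf i)) (hy : y ∈ Sg J (Wf i)) :
    ∃ g ∈ G ⊓ Ns (J ⊓ Cs J ⊓ ⨅ k, Kf k) ⊓ ⨅ k, Ns ⁅Wf k, J⁆,
      (∀ k, ⁅Wf k, J⁆ ≠ ⁅Wf i, J⁆ → g ∈ Cs ⁅Wf k, J⁆) ∧
        g * x * g⁻¹ * y⁻¹ ∈ J ⊓ Cs J ⊓ ⨅ k, Kf k := by
  choose t ht using tor
  have c1 : ∀ j, ⁅Wf i, J⁆ = ⁅Wf j, J⁆ → ∀ k, ⁅Wf k, J⁆ ≠ ⁅Wf i, J⁆ → t j ∈ Cs ⁅Wf k, J⁆ :=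
    fun j e k n => Cs_anti (h.le_K_of_ne (e ▸ n.symm)) (ht j).cK
  have c2 : ∀ j, ⁅Wf i, J⁆ = ⁅Wf j, J⁆ →
      t j ∈ G ⊓ Ns (J ⊓ Cs J ⊓ ⨅ k, Kf k) ⊓ ⨅ k, Ns ⁅Wf k, J⁆ := fun j e =>
    ⟨⟨(ht j).mem, Cs_le_Ns (Cs_anti (inf_le_right.trans (iInf_le _ j)) (ht j).cK)⟩,
      mem_iInf.2 fun k => by
        by_cases e1 : ⁅Wf k, J⁆ = ⁅Wf i, J⁆
        · rw [e1, e]; exact (ht j).nR (h.nW j)
        · exact Cs_le_Ns (c1 j e k e1)⟩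
  by_cases hc : ∀ j, ⁅Wf i, J⁆ = ⁅Wf j, J⁆ → ⁅Wf i, J⁆ ⊓ Kf i ≤ Kf j
  · obtain ⟨n, hn⟩ := (ht i).t1 x (Sg_R hx) (h.Sg_K hx) y (Sg_R hy) (h.Sg_K hy)
    have h1 := mul_mem (mem_normalizer_conj (pow_mem ((ht i).nR (h.nW i)) n) (Sg_R hx))
      (inv_mem (Sg_R hy))
    refine ⟨t i ^ n, pow_mem (c2 i rfl) n, fun k e => pow_mem (c1 i rfl k e) n, h.R_le i h1,
      mem_iInf.2 fun k => ?_⟩
    by_cases e : ⁅Wf i, J⁆ = ⁅Wf k, J⁆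
    · exact hc k e ⟨h1, hn⟩
    · exact h.le_K_of_ne (Ne.symm e) h1
  push Not at hc
  obtain ⟨j, e, ne⟩ := hc
  obtain ⟨n, m, hn⟩ := h.cross pJ (ht j) (ht i) e.symm (e ▸ ne) (h.Sg_le e hx) (h.Sg_le e hy)
  exact ⟨_, mul_mem (pow_mem (c2 j e) n) (pow_mem (c2 i rfl) m),
    fun k e1 => mul_mem (pow_mem (c1 j e k e1) n) (pow_mem (c1 i rfl k e1) m),
    by rw [hn, mul_inv_cancel]; exact one_mem _⟩

theorem trans_all (h : CF J Wf Kf) (pJ : IsPGroup 2 J) (tor : ∀ i, ∃ t, Tor G J (Wf i) (Kf i) t)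
    {σ τ : Subgroup Γ → Γ} (hσ : ∀ i, σ ⁅Wf i, J⁆ ∈ Sg J (Wf i))
    (hτ : ∀ i, τ ⁅Wf i, J⁆ ∈ Sg J (Wf i)) (s : Finset (Subgroup Γ)) :
    ∃ g ∈ G ⊓ Ns (J ⊓ Cs J ⊓ ⨅ k, Kf k) ⊓ ⨅ k, Ns ⁅Wf k, J⁆,
      (∀ k, ⁅Wf k, J⁆ ∉ s → g ∈ Cs ⁅Wf k, J⁆) ∧ ∀ k, ⁅Wf k, J⁆ ∈ s →
        g * σ ⁅Wf k, J⁆ * g⁻¹ * (τ ⁅Wf k, J⁆)⁻¹ ∈ J ⊓ Cs J ⊓ ⨅ k, Kf k := by
  classical
  induction s using Finset.induction_on with
  | empty => exact ⟨1, one_mem _, fun _ _ => one_mem _, fun _ h => absurd h (by simp)⟩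
  | insert R s hR ih =>
    obtain ⟨g, hg, h1, h2⟩ := ih
    by_cases hi : ∃ i, ⁅Wf i, J⁆ = R
    swap
    · exact ⟨g, hg, fun k hk => h1 k fun e => hk (Finset.mem_insert_of_mem e), fun k hk =>
        h2 k ((Finset.mem_insert.1 hk).resolve_left fun e => hi ⟨k, e⟩)⟩
    obtain ⟨i, rfl⟩ := hi
    obtain ⟨g', hg', h3, h4⟩ := h.trans pJ tor (hσ i) (hτ i)
    refine ⟨g' * g, mul_mem hg' hg, fun k hk => mul_mem
      (h3 k fun e => hk (e ▸ Finset.mem_insert_self _ _))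
      (h1 k fun e => hk (Finset.mem_insert_of_mem e)), fun k hk => ?_⟩
    by_cases e : ⁅Wf k, J⁆ = ⁅Wf i, J⁆
    · have := h1 i hR _ (Sg_R (hσ i))
      rwa [e, mul_inv_rev, mul_assoc g', ← this, mul_assoc g', ← mul_assoc _ g⁻¹,
        mul_inv_cancel_right, ← mul_assoc]
    · have := h3 k e _ (mem_normalizer_conj (mem_iInf.1 hg.2 k) (Sg_R (hσ k)))
      have h5 := h2 k ((Finset.mem_insert.1 hk).resolve_left e)
      rwa [← mul_inv_cancel_right (g * _ * g⁻¹) g', this, ← mul_assoc, ← mul_assoc, mul_assoc _ g⁻¹,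
        ← mul_inv_rev] at h5

/-- A compatible family with tori admits no operator group without fixed classes. -/
theorem ev [Nonempty ι] (h : CF J Wf Kf) (pJ : IsPGroup 2 J)
    (tor : ∀ i, ∃ t, Tor G J (Wf i) (Kf i) t) (AG : A ≤ Ns G) (AJ : A ≤ Ns J)
    (perm : ∀ a ∈ A, ∀ i, ∃ k, cj a (Wf i) = Wf k ∧ cj a (Kf i) = Kf k) (OA : O ≤ A)
    (odd : Odd (Nat.card O)) (fix : J ⊓ Cs O = ⊥) (prop : ∀ i, ¬ G ≤ Ns ⁅Wf i, J⁆)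
    (cov : ∀ H < G, A ≤ Ns H → ∀ L : Subgroup Γ, (∀ a ∈ A, ∃ g ∈ H, g * a ∈ L) →
      ∃ g ∈ H, cj g A ≤ L) : False := by
  classical
  have := Fact.mk Nat.prime_two
  set N := J ⊓ Cs J ⊓ ⨅ k, Kf k with hN
  have pR : ∀ a ∈ A, ∀ i, ∃ k, cj a ⁅Wf i, J⁆ = ⁅Wf k, J⁆ ∧ cj a (Wf i) = Wf k := fun a ha i => by
    obtain ⟨k, h1, -⟩ := perm a ha i
    exact ⟨k, by rw [cj_comm_J (AJ ha), h1], h1⟩
  have AN : A ≤ Ns N := le_Ns_inf (le_Ns_inf AJ (le_Ns_Cs AJ)) fun a ha =>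
    mem_normalizer_of_cj_le (le_iInf fun k => by
      obtain ⟨l, -, h1⟩ := perm a⁻¹ (inv_mem ha) k
      rw [cj_le_iff_le_cj_inv, h1]
      exact iInf_le _ l)
  have AM : A ≤ Ns (G ⊓ Ns N ⊓ ⨅ k, Ns ⁅Wf k, J⁆) :=
    le_Ns_inf (le_Ns_inf AG (AN.trans le_normalizer)) fun a ha =>
      mem_normalizer_of_cj_le (le_iInf fun k => by
        obtain ⟨l, h1, -⟩ := pR a⁻¹ (inv_mem ha) k
        rw [cj_le_iff_le_cj_inv, cj_Ns, h1]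
        exact iInf_le (fun k => Ns ⁅Wf k, J⁆) l)
  obtain ⟨σ, hσ⟩ : ∃ σ : Subgroup Γ → Γ, ∀ i, σ ⁅Wf i, J⁆ ∈ Sg J (Wf i) := by
    choose x hx using h.Sg_ne
    refine ⟨fun R => if e : ∃ i, ⁅Wf i, J⁆ = R then x e.choose else 1, fun i => ?_⟩
    have e : ∃ k, ⁅Wf k, J⁆ = ⁅Wf i, J⁆ := ⟨i, rfl⟩
    simp only [dif_pos e]
    exact h.Sg_le e.choose_spec (hx _)
  obtain ⟨i⟩ := ‹Nonempty ι›
  have := Fintype.ofFinite (Subgroup Γ)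
  obtain ⟨m, hm, hL⟩ := cov _ (lt_of_le_of_ne (inf_le_left.trans inf_le_left) fun e => prop i
    (e.ge.trans (inf_le_right.trans (iInf_le _ i)))) AM
    (normalizer {x | ∃ k, x * (σ ⁅Wf k, J⁆)⁻¹ ∈ N}) fun a ha => by
      obtain ⟨g, hg, -, h1⟩ := h.trans_all pJ tor (σ := fun R => a * σ (cj a⁻¹ R) * a⁻¹)
        (fun k => by
          obtain ⟨l, h1, h2⟩ := pR a⁻¹ (inv_mem ha) k
          obtain ⟨b, hb, hb', w, hw, hw', e⟩ := hσ l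
          rw [cj_eq_iff_eq_cj_inv, inv_inv] at h2
          rw [h1, e, conj_comm, h2]
          exact ⟨_, mem_normalizer_conj (AJ ha) hb, by rwa [← cj_Cs, conj_mem_cj], _,
            conj_mem_cj.2 hw, by rwa [← mem_Ns_iff.1 (AJ ha), ← cj_Cs, conj_mem_cj], rfl⟩)
        hσ Finset.univ
      refine ⟨g, hg, mem_normalizer_fintype ?_⟩
      rintro x ⟨k, hk⟩
      obtain ⟨l, h2, -⟩ := pR a ha k
      refine ⟨l, ?_⟩
      have h3 := h1 l (Finset.mem_univ _)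
      simp only [← h2, cj_inv_cj] at h3 ⊢
      convert mul_mem (mem_normalizer_conj (mul_mem hg.1.2 (AN ha)) hk) h3 using 1
      group
  have nR : ∀ k, m ∈ Ns ⁅Wf k, J⁆ := mem_iInf.1 hm.2
  have NK : ∀ k, N ≤ Kf k := fun k => inf_le_right.trans (iInf_le _ k)
  have out : ∀ k, ∃ j, ⁅Wf k, J⁆ = ⁅Wf j, J⁆ ∧ m⁻¹ * σ ⁅Wf k, J⁆ * m ∉ Kf j := fun k => by
    by_contra hn
    push Not at hn
    have h1 := mem_normalizer_conj' (nR k) (Sg_R (hσ k))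
    have h2 : m⁻¹ * σ ⁅Wf k, J⁆ * m ∈ N := ⟨h.R_le k h1, mem_iInf.2 fun j => by
      by_cases e : ⁅Wf k, J⁆ = ⁅Wf j, J⁆
      · exact hn j e
      · exact h.le_K_of_ne (Ne.symm e) h1⟩
    exact h.Sg_K (hσ k) (NK k (by simpa [mul_assoc] using mem_normalizer_conj hm.1.2 h2))
  set x := m⁻¹ * σ ⁅Wf i, J⁆ * m with hx
  have xR : x ∈ ⁅Wf i, J⁆ := mem_normalizer_conj' (nR i) (Sg_R (hσ i))
  have NZ : N ≤ J ⊓ Cs J := inf_le_left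
  obtain ⟨n, hn, hc⟩ := exists_centralizer_mem_coset N (O ⊓ Ns ⁅Wf i, J⁆)
    (inf_le_left.trans (OA.trans AN)) (by
      obtain ⟨k, hk⟩ := (pJ.to_le (NZ.trans inf_le_left)).exists_card_eq
      rw [hk]
      exact (Nat.coprime_two_right.2 (odd.of_dvd_nat (card_dvd_of_le inf_le_left))).pow_right k)
    (Or.inr (by have := (pJ.to_le (NZ.trans inf_le_left)).isNilpotent; infer_instance)) x
    fun a ha => by
      obtain ⟨k, hk⟩ := (mem_set_normalizer_iff.1 (hL (conj_mem_cj.2 (OA ha.1))) _).1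
        (show σ ⁅Wf i, J⁆ ∈ {x | ∃ k, x * (σ ⁅Wf k, J⁆)⁻¹ ∈ N} from ⟨i, by simp⟩)
      have h1 : a * x * a⁻¹ * (m⁻¹ * σ ⁅Wf k, J⁆ * m)⁻¹ ∈ N := by
        convert mem_normalizer_conj' hm.1.2 hk using 1
        rw [hx]; group
      have h2 := mem_normalizer_conj ha.2 xR
      by_cases e : ⁅Wf k, J⁆ = ⁅Wf i, J⁆
      · rw [e, ← hx] at h1
        rwa [(h.R_le i h2).2 _ (inv_mem (h.R_le i xR).1)]
      · obtain ⟨j, e1, h3⟩ := out k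
        exact absurd (by simpa [mul_assoc] using mul_mem (inv_mem (NK j h1)) (h.le_K_of_ne (e1 ▸ e) h2)) h3
  obtain ⟨j, e, h1⟩ := out i
  have h2 : x * n ∈ J ⊓ Cs J := mul_mem (h.R_le i xR) (NZ hn)
  suffices h3 : x * n ∈ Kf j from h1 (by simpa using mul_mem h3 (inv_mem (NK j hn)))
  refine op (OA.trans AJ) fix h2.1 (fun a ha =>
      h2.2 _ (mem_normalizer_conj (AJ (OA ha)) h2.1)) fun a ha h3 => ?_
  have h4 : a ∉ Ns ⁅Wf i, J⁆ := fun h4 => h3 (mul_inv_eq_iff_eq_mul.2 (hc a ⟨ha, h4⟩))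
  obtain ⟨k, h5, -⟩ := pR a (OA ha) i
  have h6 := h.le_K_of_ne (i := j) (j := k) (fun e1 => h4 (mem_Ns_iff.2 (by rw [h5, ← e1, e])))
    (h5 ▸ conj_mem_cj.2 xR : a * x * a⁻¹ ∈ _)
  convert mul_mem h6 (NK j (mem_normalizer_conj (AN (OA ha)) hn)) using 1
  group

end CF

end Cfsg.Lib.FPF
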