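import Cfsg.Agent.FPF.EvA
import Cfsg.Agent.FPF.Node

/-! The torus of a rank one block. -/

set_option autoImplicit false
set_option linter.unusedSectionVars false

open scoped commutatorElement Pointwise

namespace Cfsg.Lib.FPF

open Cfsg Subgroup Cfsg.Lib.Trans Cfsg.Lib.Trans.TJ Cfsg.Lib.Trans.PU Cfsg.Lib.Gold

universe u

/-- A generator of the torus of a block, normalising `B`. -/
structure Tr {Γ : Type*} [Group Γ] (B W K : Subgroup Γ) (h : Γ) : Prop where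
  odd : Odd (orderOf h)
  nW : h ∈ Ns W
  nB : h ∈ Ns B
  cK : h ∈ Cs K
  t1 : ∀ u ∈ ⁅W, B⁆, u ∉ K → ∀ u' ∈ ⁅W, B⁆, u' ∉ K → ∃ n : ℕ, h ^ n * u * (h ^ n)⁻¹ * u'⁻¹ ∈ K
  t2 : ∀ w ∈ W, w ∉ Cs B → ∀ w' ∈ W, w' ∉ Cs B → ∃ n : ℕ, h ^ n * w * (h ^ n)⁻¹ * w'⁻¹ ∈ Cs B

variable {Γ : Type u} [Group Γ] [Finite Γ] {G T X B W K E M P J : Subgroup Γ} {t : Γ}

open Cfsg.Lib.Trans.MP Cfsg.Lib.Chev.Core Matrix in
theorem tr_of_r1 (hr : R1 2 P B M) (hE : E = Local.resOf 2 P) (hW : W = ⁅vv 2 P, E⁆)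
    (BX : B ≤ X) : ∃ t ∈ E, Tr B W (X ⊓ Cs E) t := by
  classical
  have hx : Vx 2 P := ⟨_, _, hr⟩
  have EP : E ≤ P := hE ▸ Local.resOf_le P
  have BP : B ≤ P := hr.syl.le
  have PE : P ≤ Ns E := hE ▸ Local.le_normalizer_resOf P
  have PV : P ≤ Ns (vv 2 P) := le_norm_vv P
  have WV : W ≤ vv 2 P := hW ▸ comm_le_iff.2 fun e he v hv => comm_mem_of_norm (PV (EP he)) hv
  have PW : P ≤ Ns W := hW ▸ Solv.PG.le_normalizer_commutator PV PE
  have VX : vv 2 P ≤ X := ((vv_le P).trans hr.Q_le).trans BX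
  have CE : Cs P ≤ Cs E := TJ.centralizer_anti EP
  obtain ⟨n, hn'⟩ := (hr.syl.isPGroup.index ((pCoreOf 2 P).subgroupOf B))
  have n0 : n ≠ 0 := fun e => by
    obtain ⟨s, hs, h1⟩ := hr.exists_not_mem_Q
    rw [e, pow_zero] at hn'
    exact h1 (relIndex_eq_one.1 hn' hs)
  obtain ⟨F, _, _, hF⟩ := exists_field_card (p := 2) n0
  obtain ⟨g, hg, hg'⟩ := SetLike.exists_of_lt hr.uniq.2.1
  obtain ⟨θ, ψ, hm, hU, -, h0, -⟩ := hr.natMod hg hg' F (hF.trans hn'.symm)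
  have mv : ∀ (N : SpecialLinearGroup (Fin 2) F) (z : Fin 2 → F) (i : Fin 2),
      (N : Matrix (Fin 2) (Fin 2) F).mulVec z i = N i 0 * z 0 + N i 1 * z 1 := fun N z i => by
    simp [mulVec, dotProduct, Fin.sum_univ_two]
  obtain ⟨a, ha⟩ := IsCyclic.exists_monoid_generator (α := Fˣ)
  let Up : Γ → Fˣ → Prop := fun x c => x ∈ P ∧ θ x 1 0 = 0 ∧ θ x 0 0 = c
  have u1 : Up 1 1 := ⟨one_mem _, by simp [hm.theta_one], by simp [hm.theta_one]⟩
  have um : ∀ {x y c d}, Up x c → Up y d → Up (x * y) (c * d) := fun {x y c d} h1 h2 =>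
    ⟨mul_mem h1.1 h2.1, by rw [hm.mul x h1.1 y h2.1, sl2_mul_apply, h1.2.1, h2.2.1]; simp,
      by rw [hm.mul x h1.1 y h2.1, sl2_mul_apply, h1.2.2, h2.2.1, h2.2.2]; simp⟩
  have up : ∀ {x c}, Up x c → ∀ m : ℕ, Up (x ^ m) (c ^ m) := fun {x c} h m => by
    induction m with
    | zero => simpa using u1
    | succ m ih => rw [pow_succ, pow_succ]; exact um ih h
  have ud : ∀ {x c}, Up x c → θ x 1 1 = (c⁻¹ : Fˣ) := fun {x c} h => by
    have := PU.sl2_det (θ x)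
    rw [h.2.1, h.2.2, mul_zero, sub_zero] at this
    exact (Units.inv_eq_of_mul_eq_one_right this).symm
  have ui : ∀ {x c}, Up x c → Up x⁻¹ c⁻¹ := fun {x c} h =>
    ⟨inv_mem h.1, by simp [hm.theta_inv h.1, SpecialLinearGroup.SL2_inv_expl, h.2.1],
      by simp [hm.theta_inv h.1, SpecialLinearGroup.SL2_inv_expl, ud h]⟩
  let N : Subgroup Γ :=
    { carrier := {x | Up x 1}
      one_mem' := u1
      mul_mem' := fun h1 h2 => one_mul (1 : Fˣ) ▸ um h1 h2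
      inv_mem' := fun h => inv_one (G := Fˣ) ▸ ui h }
  have BN : B ≤ N := fun b hb => by
    obtain ⟨s, e⟩ := hU.1 b hb
    exact ⟨BP hb, by rw [e]; exact sl2U_10 s, by rw [e]; exact sl2U_00 s⟩
  obtain ⟨l, hl, e⟩ := hm.onto ⟨!![(a : F), 0; 0, (a⁻¹ : Fˣ)], by simp [det_fin_two]⟩
  have ul : Up l a := ⟨hl, by rw [e]; rfl, by rw [e]; rfl⟩
  obtain ⟨y, hy, h1⟩ := (hr.syl.mono BN fun _ h => h.1).exists_cj_le
    (Q := cj l B) (hr.syl.cj_of_mem hl).isPGroup (cj_le_iff.2 fun b hb => by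
      have := um (um ul (BN hb)) (ui ul)
      rwa [mul_one, mul_inv_cancel] at this)
  rw [cj_cj] at h1
  have h2 := um hy ul
  rw [one_mul] at h2
  obtain ⟨j, k, -, h3⟩ := Rk.exists_odd (y * l)
  have h4 := up h2 (2 ^ k)
  have h5 : (y * l) ^ 2 ^ k ∈ Ns B := pow_mem (mem_normalizer_of_cj_le h1) _
  generalize (y * l) ^ 2 ^ k = t at h3 h4 h5
  have tE : t ∈ E := hE ▸ Local.mem_resOf h4.1 (Nat.coprime_two_right.2 h3)
  have gen : ∀ z : Fˣ, ∃ m : ℕ, Up (t ^ m) z := fun z => by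
    obtain ⟨i, rfl⟩ := ha z
    obtain ⟨m, hm'⟩ := exists_pow_eq_self_of_coprime (x := a) (n := 2 ^ k) (by
      refine Nat.Coprime.pow_left _ (Nat.coprime_two_left.2 (Odd.of_dvd_nat ?_ orderOf_dvd_card))
      rw [Fintype.card_units, hF]
      exact Nat.Even.sub_odd Nat.one_le_two_pow ((Nat.even_pow' n0).2 even_two) odd_one)
    refine ⟨m * i, ?_⟩
    have := up h4 (m * i)
    rwa [pow_mul (a ^ 2 ^ k), hm'] at this
  have ps : ∀ {x v v'}, x ∈ P → v ∈ vv 2 P → v' ∈ vv 2 P → ∀ i, ψ (x * v * x⁻¹ * v'⁻¹) i =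
      θ x i 0 * ψ v 0 + θ x i 1 * ψ v 1 - ψ v' i := fun {x v v'} h1 h2 h3 i => by
    rw [hm.add _ (hm.conj_mem h1 h2) _ (inv_mem h3), hm.psi_inv h3, hm.act x h1 v h2,
      Pi.add_apply, mv, Pi.neg_apply, sub_eq_add_neg]
  refine ⟨t, tE, h3, PW h4.1, h5, fun x hx => (hx.2 t tE).symm, fun u hu hu' v hv hv' => ?_,
    fun u hu hu' v hv hv' => ?_⟩
  · have k1 : ∀ {u}, u ∈ ⁅W, B⁆ → u ∉ X ⊓ Cs E → u ∈ vv 2 P ∧ ψ u 1 = 0 ∧ ψ u 0 ≠ 0 :=
      fun {u} hu hu' => by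
        obtain ⟨a1, a2⟩ := hx.comm_le hr.syl (commutator_mono WV le_rfl hu)
        have a3 := (h0 u a1).1 a2
        exact ⟨a1, a3, fun e => hu' ⟨VX a1,
          CE ((hm.ker u a1).1 (by ext i; fin_cases i <;> simp [e, a3])).2⟩⟩
    obtain ⟨a1, a2, a3⟩ := k1 hu hu'
    obtain ⟨b1, b2, b3⟩ := k1 hv hv'
    obtain ⟨m, c1, c2, c3⟩ := gen (Units.mk0 (ψ v 0 / ψ u 0) (div_ne_zero b3 a3))
    have c4 := mul_mem (hm.conj_mem c1 a1) (inv_mem b1)
    refine ⟨m, VX c4, CE ((hm.ker _ c4).1 ?_).2⟩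
    ext i
    rw [ps c1 a1 b1]
    fin_cases i
    · simp [c3, a2, a3]
    · simp [c2, a2, b2]
  · have a1 := mt (h0 u (WV hu)).2 hu'
    have b1 := mt (h0 v (WV hv)).2 hv'
    obtain ⟨m, c⟩ := gen (Units.mk0 (ψ u 1 / ψ v 1) (div_ne_zero a1 b1))
    refine ⟨m, (h0 _ (mul_mem (hm.conj_mem c.1 (WV hu)) (inv_mem (WV hv)))).2 ?_⟩
    rw [ps c.1 (WV hu) (WV hv), c.2.1, ud c]
    simp [a1]

omit [Finite Γ] in
theorem Tr.transfer {P Q : Type*} [Group P] [Group Q] {ι : P →* Γ} {j : P →* Q}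
    (hι : Function.Injective ι) (hj : Function.Injective j) {B W K U : Subgroup P} (BU : B ≤ U)
    (WU : W ≤ U) (KU : K ≤ U) [Finite Γ] {k : Γ} {t : Q} (odd : Odd (orderOf k))
    (c : ∀ n : ℕ, ∀ x ∈ U, ∃ y, ι y = k ^ n * ι x * (k ^ n)⁻¹ ∧ j y = t ^ n * j x * (t ^ n)⁻¹)
    (h : Tr (B.map j) (W.map j) (K.map j) t) : Tr (B.map ι) (W.map ι) (K.map ι) k := by
  have nY : ∀ {Y}, Y ≤ U → t ∈ Ns (Y.map j) → k ∈ Ns (Y.map ι) := fun {Y} YU n =>
    mem_normalizer_of_cj_le (cj_le_iff.2 (forall_map.2 fun x hx => by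
      obtain ⟨y, e1, e2⟩ := c 1 x (YU hx)
      rw [pow_one] at e1 e2
      exact ⟨y, (mem_map_iff_mem hj).1 (e2 ▸ mem_normalizer_conj n (mem_map_of_mem j hx)), e1⟩))
  have RU : ⁅W, B⁆ ≤ U := (commutator_mono WU BU).trans (commutator_le_left_of_le le_normalizer)
  refine ⟨odd, nY WU h.nW, nY BU h.nB, mem_Cs.2 (forall_map.2 fun x hx => ?_), ?_, ?_⟩
  · obtain ⟨y, e1, e2⟩ := c 1 x (KU hx)
    rw [pow_one] at e1 e2
    rw [← h.cK _ (mem_map_of_mem j hx), mul_inv_cancel_right] at e2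
    rw [hj e2] at e1
    exact eq_mul_inv_iff_mul_eq.1 e1
  · rw [← Subgroup.map_commutator]
    refine forall_map.2 fun u hu hu' => forall_map.2 fun v hv hv' => ?_
    rw [mem_map_iff_mem hι, ← mem_map_iff_mem hj] at hu' hv'
    obtain ⟨n, e⟩ := h.t1 _ (Subgroup.map_commutator W B j ▸ mem_map_of_mem j hu) hu' _
      (Subgroup.map_commutator W B j ▸ mem_map_of_mem j hv) hv'
    obtain ⟨y, e1, e2⟩ := c n u (RU hu)
    refine ⟨n, ?_⟩
    rwa [← e1, ← map_inv, ← map_mul, mem_map_iff_mem hι, ← mem_map_iff_mem hj, map_mul, map_inv, e2]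
  · refine forall_map.2 fun u hu hu' => forall_map.2 fun v hv hv' => ?_
    rw [map_mem_Cs hι, ← map_mem_Cs hj] at hu' hv'
    obtain ⟨n, e⟩ := h.t2 _ (mem_map_of_mem j hu) hu' _ (mem_map_of_mem j hv) hv'
    obtain ⟨y, e1, e2⟩ := c n u (WU hu)
    refine ⟨n, ?_⟩
    rwa [← e1, ← map_inv, ← map_mul, map_mem_Cs hι, ← map_mem_Cs hj, map_mul, map_inv, e2]

theorem Tr.cj (h : Tr B W K t) (g : Γ) : Tr (cj g B) (cj g W) (cj g K) (g * t * g⁻¹) := by
  have := Tr.transfer (ι := (MulAut.conj g).toMonoidHom) (j := MonoidHom.id Γ)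
    (MulAut.conj g).injective Function.injective_id (B := B) (W := W) (K := K) (U := ⊤) le_top
    le_top le_top (k := g * t * g⁻¹) (t := t) (by
      rw [show g * t * g⁻¹ = MulAut.conj g t from rfl, MulEquiv.orderOf_eq]; exact h.odd)
    (fun n x _ => ⟨t ^ n * x * (t ^ n)⁻¹, by rw [conj_pow]; simp [mul_assoc], rfl⟩) (by simpa using h)
  exact this

omit [Finite Γ] in
theorem Tr.tor (h : Tr B W K t) (tG : t ∈ G) (e1 : J ⊔ Cs W = B ⊔ Cs W) (e2 : ⁅W, J⁆ = ⁅W, B⁆)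
    (e3 : W ⊓ Cs J = W ⊓ Cs B) : Tor G J W K t := by
  refine ⟨tG, h.odd, h.nW, e1 ▸ Solv.PG.le_normalizer_sup (zpowers_le.2 h.nB)
    (le_Ns_Cs (zpowers_le.2 h.nW)) (mem_zpowers t), h.cK, e2 ▸ h.t1, fun w hw a v hv b => ?_⟩
  obtain ⟨n, e⟩ := h.t2 w hw (fun k => a (e3.ge ⟨hw, k⟩).2) v hv fun k => b (e3.ge ⟨hv, k⟩).2
  exact ⟨n, (e3.ge ⟨W.mul_mem (mem_normalizer_conj (pow_mem h.nW n) hw) (W.inv_mem hv), e⟩).2⟩

theorem LH.exists_nd3 {Φ : Subgroup (MulAut X)} (h : LH X M T Φ) :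
    ∃ E W q, Nd T X (baumannSubgroupOf 2 X) W (X ⊓ Cs E) q ∧ ¬ E ≤ M ∧
      E ≤ commStab W (X ⊓ Cs W : Subgroup Γ) ∧
      ∃ t, Tr (baumannSubgroupOf 2 X) W (X ⊓ Cs E) t := by
  have hQ := pCore_le_of_isSylowIn_top h.syl
  obtain ⟨⟨z, hz, hz'⟩, P, hB, hM, hr, hOP, ctl⟩ := exists_rankOne_ctl h.syl h.char h.uniq h.nZ
    ((normalizer_le_normalizer_J _).trans (by rw [LH.J_bau]; exact h.nJ))
  obtain ⟨r, blk⟩ := h.blk hB hM hr
  have eP : (⊤ : Subgroup P).map P.subtype = P := by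
    rw [← MonoidHom.range_eq_map, range_subtype]
  have eV : (vv 2 (⊤ : Subgroup P)).map P.subtype = vv 2 P := by
    rw [vv_map _ P.subtype_injective, eP]
  have r' := r.map P.subtype_injective
  replace blk := map_mono (f := P.subtype) blk
  rw [eP, map_subgroupOf_eq_of_le hB, subgroupOf_map_subtype] at r'
  rw [map_commutator, map_commutator, Local.map_resOf, eP, eV] at blk
  have : (omegaOneCenter 2 (pCore 2 Γ)).Normal := Local.MSS.normal_of_top_le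
    (le_normalizer_of_normal.trans (normalizer_le_normalizer_omegaOne_center _))
  have hab : omegaOneCenter 2 (pCore 2 Γ) ≤ Cs (omegaOneCenter 2 (pCore 2 Γ)) :=
    ea_le_centralizer (ea_omegaOne_center _)
  have hVO : omegaOneCenter 2 (pCore 2 Γ) ≤ pCore 2 Γ := (omegaOne_le _).trans inf_le_left
  obtain ⟨z1, -, z2⟩ := mem_omegaOne_center_iff.1 hz.1
  replace hz1 := hz.1
  generalize omegaOneCenter 2 (pCore 2 Γ) = V at *
  have pO := Solv.pCore_isPGroup 2 Γ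
  have hOQ : pCore 2 Γ ⊓ P ≤ pCoreOf 2 P := Local.le_pCoreOf inf_le_right
    (Solv.le_normalizer_inf le_normalizer_of_normal le_normalizer) pO.to_inf_left
  have hEM : ¬ Local.resOf 2 P ≤ M := fun e => hM ((Local.resOf_sup_sylowIn r'.syl).ge.trans
    (sup_le e ((bau_le X).trans h.uniq.le)))
  have hWV : ⁅vv 2 P, Local.resOf 2 P⁆ ≤ V := by
    have zP : z ∈ P := hB (center_le_bau X ⟨hQ z1, hz.2⟩)
    have zV : (⟨z, zP⟩ : P) ∈ vv 2 ⊤ := (mem_map_iff_mem P.subtype_injective).1 (eV.ge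
      (mem_vv.2 ⟨hOQ ⟨z1, zP⟩, TJ.centralizer_anti (r'.Q_le.trans (bau_le X)) hz.2, z2⟩))
    have zZ : (⟨z, zP⟩ : P) ∉ center P := fun e => hz' (mem_center_iff.2 fun g =>
      (MP.cent_symm (B := zpowers z) (A := X ⊔ P) (sup_le (MP.cent_symm (zpowers_le.2 hz.2))
        (MP.cent_symm (zpowers_le.2 fun g hg => congrArg Subtype.val (mem_center_iff.1 e ⟨g, hg⟩))))
        (mem_zpowers _)) g ((h.uniq.eq_of_not_le (le_sup_left : X ≤ X ⊔ P) le_top
          fun e => hM (le_sup_right.trans e)).ge (mem_top g)))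
    refine commutator_le.2 fun v hv e he => ?_
    obtain ⟨v, hv', rfl⟩ := eV.ge hv
    obtain ⟨w, hw, h1⟩ := r.irr (V.subgroupOf P) zV hz1 zZ hv'
    have h2 : e * ((w : Γ)⁻¹ * v) = (w : Γ)⁻¹ * v * e :=
      congrArg Subtype.val (mem_center_iff.1 h1 ⟨e, Local.resOf_le P he⟩)
    have h3 : ⁅(v : Γ), e⁆ = ⁅(w : Γ), e⁆ := by
      rw [← mul_inv_cancel_left (w : Γ) v, commutatorElement_mul_left_eq_conj_mul,
        commutatorElement_eq_one_iff_mul_comm.2 h2.symm, mul_one, mul_inv_cancel, one_mul]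
    exact h3 ▸ commutator_le_left V ⊤ (commutator_mem_commutator hw.2 (mem_top e))
  have hOE : ⁅pCore 2 Γ, Local.resOf 2 P⁆ ≤ ⁅vv 2 P, Local.resOf 2 P⁆ := by
    rw [← Local.commutator_resOf_resOf pO le_normalizer_of_normal]
    exact (commutator_mono ((le_inf (commutator_le_left _ _) (((commutator_mono le_rfl
      (Local.resOf_le P)).trans hOP).trans hB)).trans hOQ) le_rfl).trans blk
  have eW : ⁅V, Local.resOf 2 P⁆ = ⁅vv 2 P, Local.resOf 2 P⁆ := by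
    refine le_antisymm ((commutator_mono hVO le_rfl).trans hOE) ?_
    rw [← Local.commutator_resOf_resOf (ea_isPGroup (vv_ea P)) (le_norm_vv P)]
    exact commutator_mono hWV le_rfl
  have pC : IsPGroup 2 (Cs V) := by
    have : (commStab V (pCore 2 Γ : Set Γ)).Normal := ⟨fun n hn g =>
      ⟨le_normalizer_of_normal (mem_top _), fun a ha => by
        have := Normal.conj_mem inferInstance _ (hn.2 _ (Normal.conj_mem' inferInstance a ha g)) g
        rwa [conjugate_commutatorElement, show g * (g⁻¹ * a * g) * g⁻¹ = a by group] at this⟩⟩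
    have h1 : Local.resOf 2 (Cs V) ≤ commStab V (pCore 2 Γ : Set Γ) :=
      Local.resOf_le_of_le_sup h.syl.isPGroup le_normalizer_of_normal (le_top.trans
        ((h.uniq.eq_of_not_le (le_sup_right : X ≤ Local.resOf 2 P ⊔ X) le_top
          fun e => hEM (le_sup_left.trans e)).ge.trans (sup_le_sup_right (le_commStab
            le_normalizer_of_normal ((commutator_comm _ _).le.trans (hOE.trans hWV))) _)))
    refine Local.isPGroup_of_resOf_le ((Local.charP_top_iff.2 h.char).isPGroup_of_commutator_le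
      (U := V) le_top ?_ (Local.resOf_le _)) le_rfl
    rw [Local.pCoreOf_top, commutator_comm]
    exact commutator_le_of_le_commStab h1
  have hCE : Cs V ≤ Ns (Local.resOf 2 P) := (Solv.le_pCore inferInstance pC).trans
    (Local.le_normalizer_of_commutator_le' (hOE.trans
      (Solv.commutator_le_right_of_le_normalizer ((vv_le_self P).trans (Local.le_normalizer_resOf P)))))
  obtain ⟨n1, -, n3⟩ := nd_of_r1 (T := T) (X := X) r' rfl rfl blk
    (le_inf (fun t ht => mem_vv.2 ⟨hOQ ⟨h.TO ht, hB (h.TB' ht)⟩,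
      TJ.centralizer_anti r'.Q_le (h.TB ht), ea_pow h.ea ht⟩) h.TB) (inf_le_left.trans h.MT)
    (fun e => hEM ((MP.cent_symm e).trans h.CT)) h.syl.isPGroup (bau_le X)
    (le_normalizer.trans (normalizer_le_bau X))
    (fun x hx e => by
      have := Local.normalizer_le_normalizer_resOf (p := 2) _ (ctl x hx (eW ▸ e))
      rwa [Local.resOf_sup_of_isPGroup pC hCE, Local.resOf_resOf] at this)
    fun x _ => ((cj_mono x hWV).trans (cj_eq_of_normal x V).le).trans (hab.trans (TJ.centralizer_anti hWV))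
  obtain ⟨t, -, ht⟩ := tr_of_r1 r' rfl rfl (bau_le X)
  exact ⟨_, _, _, n1, hEM, n3, t, ht⟩

theorem Mx.nd3 {A O S Y : Subgroup Γ} (m : Mx G T S X) (h : TF2 G A O T S) (p : P1 G A T)
    (YX : Y ≤ Ns X) (YT : Y ≤ Ns T) (noN : ∀ U ≤ X, T ≤ U → Y ≤ Ns U → G ⊓ Ns U ≤ Ns T) :
    ∃ W K q, Nd T X (baumannSubgroupOf 2 X) W K q ∧ (∃ t ∈ G, Tr (baumannSubgroupOf 2 X) W K t) ∧
      ∀ D', T ⊔ W ≤ D' → D' ≤ X ⊓ Cs W → ∃ k ∈ G, k ∈ commStab W D' ∧ k ∈ Ns D' ∧ k ∉ Ns T := by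
  obtain ⟨D, TD, DX, XD, n⟩ := m.ex
  have HD := le_refl (G ⊓ Ns D)
  obtain ⟨L, LH, XL, nL, hs, hu, hO, hc⟩ :=
    m.setup2 h TD DX (le_inf (m.le.trans h.sylS.le) XD) HD n
  have OT : Oc L ≤ Ns T := hO.trans ((Cs_anti TD).trans Cs_le_Ns)
  have pX := hs.isPGroup
  have hj := jq_inj XL pX
  have hι := X.subtype_injective
  have LG := LH.trans (HD.trans inf_le_left)
  have LD := LH.trans (HD.trans inf_le_right)
  have hsur := QuotientGroup.mk'_surjective (pPrimeCore 2 L)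
  have back : ∀ {Y : Subgroup Γ}, Y ≤ X → (Y.subgroupOf X).map X.subtype = Y :=
    fun k => map_subgroupOf_eq_of_le k
  have top : (⊤ : Subgroup X).map X.subtype = X := by rw [← MonoidHom.range_eq_map, range_subtype]
  have hB : (baumannSubgroupOf 2 ⊤).map X.subtype = baumannSubgroupOf 2 X := by
    rw [map_bau hι, top]
  have hT : (T.subgroupOf X).map (jq XL) = (T.subgroupOf L).map (QuotientGroup.mk' _) := by
    rw [jq_map, back m.TX]
  have lh : FPF.LH (jq XL).range (Mq T L) ((T.subgroupOf X).map (jq XL)) _ := lh_of_range hj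
    (Φ := (Y.subgroupOf (Ns X)).map X.normalizerMonoidHom) (jq_syl hs) hc
    (jq_uniq XL hu OT) (fun e => ?_) (jq_crit XL pX _ ?_) ?_ (ea_subgroupOf h.ea X) ?_ ?_
    (jq_crit XL pX _ (by rw [back m.TX]; exact inf_le_right)) ?_ fun U h1 h2 => jq_crit XL pX _ ?_
  rotate_left
  · have ZX := m.center_le h
    have hn : (((S ⊓ Cs S).subgroupOf X).map (jq XL)).Normal := by
      refine normal_of_le_center (le_trans ?_ e)
      rw [MonoidHom.range_eq_map, map_inf_Cs hj]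
      exact map_mono fun x hx => ⟨mem_top _, fun y _ => Subtype.ext (hx.2 y (m.le y.2))⟩
    have LZ := le_Ns_of_jq XL pX hu OT hn
    rw [back ZX] at LZ
    refine nL ((le_inf (le_inf LG LZ) LD).trans (h.loc p ?_ inf_le_left
      (le_Ns_inf h.AS (le_Ns_Cs h.AS)) (m.TX.trans (XL.trans LZ)) (pX.to_le DX) TD))
    have := (nontrivial_iff_ne_bot S).2 fun e => h.ne (le_bot_iff.1 (e ▸ h.TS))
    have := h.sylS.isPGroup.center_nontrivial
    obtain ⟨⟨z, hz⟩, z1⟩ := exists_ne (1 : center S)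
    exact fun e => z1 (Subtype.ext (Subtype.ext (mem_bot.1 (e.le
      ⟨z.2, fun y hy => congrArg Subtype.val (mem_center_iff.1 hz ⟨y, hy⟩)⟩))))
  · rw [map_J _ hι, top]
    exact (inf_le_inf_right _ LG).trans (m.nJ2 h)
  · have : (D.subgroupOf L).Normal := (normal_subgroupOf_iff_le_normalizer (DX.trans XL)).2 LD
    exact hT ▸ (map_mono (comap_mono TD)).trans
      (Solv.le_pCore (this.map _ hsur) ((isPGroup_subgroupOf (pX.to_le DX) L).map _))
  · rw [← map_le_Cs hι, back m.TX, hB]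
    exact ((h.n2 X (m.leM h) pX).le_J h.ea m.TX).2.2
  · rw [hT]
    refine le_trans (map_mono fun k hk => ?_) (le_normalizer_map _)
    rw [← subgroupOf_normalizer_eq (m.TX.trans XL)]
    exact hk.1
  · rintro _ ⟨s, hs, rfl⟩ x hx
    exact mem_normalizer_conj (YT hs) hx
  · refine (inf_le_inf_right _ LG).trans (noN _ (map_subtype_le U) (back m.TX ▸ map_mono h1)
      fun s hs => mem_normalizer_of_cj_le (cj_le_iff.2 ?_))
    rintro _ ⟨x, hx, rfl⟩
    exact ⟨_, h2 _ ⟨⟨s, YX hs⟩, hs, rfl⟩ x hx, rfl⟩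
  obtain ⟨E, W₁, q, nd, nE, Ec, t, ht⟩ := lh.exists_nd3
  obtain ⟨W, rfl⟩ : ∃ W : Subgroup X, W₁ = W.map (jq XL) :=
    ⟨_, (map_comap_eq_self (nd.WB.trans nd.BX)).symm⟩
  rw [← map_comap_eq_self (inf_le_left (a := (jq XL).range) (b := Cs E))] at nd ht
  generalize ((jq XL).range ⊓ Cs E).comap (jq XL) = K at nd ht
  rw [MonoidHom.range_eq_map, ← map_bau hj] at ht
  have WB : W ≤ baumannSubgroupOf 2 ⊤ := by
    rw [← map_le_map_iff_of_injective hj, map_bau hj, ← MonoidHom.range_eq_map]; exact nd.WB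
  obtain ⟨k, hk, rfl⟩ := jq_lift XL pX (baumannSubgroupOf 2 ⊤ ⊔ K) (y := t) (by
    rw [Subgroup.map_sup]
    exact Solv.PG.le_normalizer_sup (zpowers_le.2 ht.nB) (zpowers_le.2 (Cs_le_Ns ht.cK))
      (mem_zpowers t))
  have tr := Tr.transfer hι hj le_sup_left (WB.trans le_sup_left) le_sup_right (k := k) (by
      have h1 : k ^ orderOf (QuotientGroup.mk' (pPrimeCore 2 L) k) ∈
          (QuotientGroup.mk' (pPrimeCore 2 L)).ker := by
        rw [MonoidHom.mem_ker, map_pow, pow_orderOf_eq_one]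
      refine Odd.of_dvd_nat (ht.odd.mul (Nat.coprime_two_right.1 (ker_cop L))) ?_
      rw [orderOf_coe, orderOf_dvd_iff_pow_eq_one, pow_mul]
      exact orderOf_dvd_iff_pow_eq_one.1 (orderOf_dvd_natCard _ h1))
    (fun n x hx => by
      obtain ⟨y, -, e⟩ := mem_normalizer_conj (pow_mem hk n) (mem_map_of_mem X.subtype hx)
      refine ⟨y, e, ?_⟩
      rw [jq, MonoidHom.comp_apply, MonoidHom.comp_apply, ← map_pow, ← map_inv, ← map_mul, ← map_mul]
      exact congrArg _ (Subtype.ext e)) ht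
  rw [hB] at tr
  rw [MonoidHom.range_eq_map, ← map_bau hj, Nd.map_iff hj, ← Nd.map_iff hι, back m.TX, top,
    hB] at nd
  refine ⟨_, _, q, nd, ⟨k, LG k.2, tr⟩, fun D' h1 h2 => ?_⟩
  clear tr hk ht
  obtain ⟨e, he, eM⟩ := SetLike.not_le_iff_exists.1 nE
  have D'X := h2.trans inf_le_left
  have hc : ∀ d ∈ D'.subgroupOf X, ⁅e, jq XL d⁆ ∈ W.map (jq XL) := fun d hd =>
    (Ec he).2 _ ⟨⟨d, rfl⟩, (map_mem_Cs hj).2 ((map_mem_Cs hι).1 (h2 hd).2)⟩
  have WD : W ≤ D'.subgroupOf X := map_le_iff_le_comap.1 (le_sup_right.trans h1)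
  obtain ⟨k, hk, rfl⟩ := jq_lift XL pX (D'.subgroupOf X)
    (Ns_of_comm (forall_map.2 fun d hd => map_mono WD (hc d hd)))
  rw [back D'X] at hk
  have hc' : ∀ d ∈ D', ⁅(k : Γ), d⁆ ∈ W.map X.subtype := fun d hd => by
    have h3 : ⁅(k : Γ), d⁆ ∈ X := D'X (mul_mem (mem_normalizer_conj hk hd) (inv_mem hd))
    refine ⟨⟨_, h3⟩, (mem_map_iff_mem hj).1 ?_, rfl⟩
    have := hc ⟨d, D'X hd⟩ hd
    rwa [jq, MonoidHom.comp_apply, ← map_commutatorElement] at this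
  exact ⟨k, LG k.2, ⟨Ns_of_comm fun w hw => hc' w (h1 (mem_sup_right hw)), hc'⟩, hk,
    fun e => eM ⟨k, ⟨e, k.2⟩, rfl⟩⟩

end Cfsg.Lib.FPF
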