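import Cfsg.Agent.FPF.Qrc

/-! The `qrc`-argument in a minimal solvable overgroup of a Sylow `2`-subgroup. -/

set_option autoImplicit false

open scoped commutatorElement Pointwise

namespace Cfsg.Lib.FPF

open Cfsg Subgroup Cfsg.Lib.Trans Cfsg.Lib.Trans.TJ Cfsg.Lib.Trans.PU Cfsg.Lib.Gold

universe u

variable {Γ : Type u} [Group Γ] [Finite Γ] {G A T S X B W K V F H R D E M J J' : Subgroup Γ} {q : ℕ}

theorem qrc2 {Q : Subgroup Γ} (hs : Group.IsSolvable H) (BA : B ≤ A) (hB : Odd (Nat.card B))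
    (AH : A ≤ Ns H) (hR : IsSylowIn 2 R H) (AR : A ≤ Ns R) (fR : R ⊓ Cs B = ⊥) (hQ : Q = pCoreOf 2 H) (TQ : T ≤ Q)
    (RT : R ≤ Ns T) (AT : A ≤ Ns T) (ea : IsElementaryAbelian 2 T) (n2 : N2 T R)
    (nJ : H ⊓ Ns (thompsonSubgroupOf 2 R) ≤ Ns T)
    (min : ∀ L < H, R ≤ L → A ≤ Ns L → L ≤ Ns T) : H ≤ Ns T := by
  by_contra n
  have QR : Q ≤ R := hQ ▸ Local.pCoreOf_le_sylowIn hR
  have HQ : H ≤ Ns Q := hQ ▸ Local.le_normalizer_pCoreOf H
  have AQ : A ≤ Ns Q := hQ ▸ AH.trans (Local.normalizer_le_normalizer_pCoreOf H)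
  have pQ : IsPGroup 2 Q := hR.isPGroup.to_le QR
  have core : ∀ {K : Subgroup Γ}, K ≤ H → H ≤ Ns K → K ≤ Ns T → K ⊓ R ≤ Q := fun a b c =>
    hQ ▸ Qrc.core AH hR AR AT min n a b c
  set U := ⨆ h : H, cj (h : Γ) T with hU
  have cT : ∀ h : H, cj (h : Γ) T ≤ Q := fun h => by
    rw [← cj_eq_of_mem_normalizer (HQ h.2)]; exact cj_mono _ TQ
  have nT : ∀ h : H, N2 (cj (h : Γ) T) Q := fun h => by
    have := (n2.mono QR).cj h
    rwa [cj_eq_of_mem_normalizer (HQ h.2)] at this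
  have jT := fun h : H => (nT h).le_J (ea_map ea _) (cT h)
  have eU : IsElementaryAbelian 2 U := ea_iSup (fun h => ea_map ea _) fun i j =>
    (jT i).2.1.trans (centralizer_le (jT j).1)
  have UQ : U ≤ Q := iSup_le cT
  have TU : T ≤ U := le_iSup_of_le (1 : H) (cj_one T).ge
  have nU : ∀ g ∈ Ns H, ∀ {a : Γ}, a ∈ Ns T → g * a⁻¹ ∈ H → g ∈ Ns U := fun g hg a ha hga => by
    refine mem_normalizer_of_cj_le ?_
    rw [hU, cj_iSup]
    refine iSup_le fun h => le_iSup_of_le
      ⟨g * h * g⁻¹ * (g * a⁻¹), H.mul_mem (mem_normalizer_conj hg h.2) hga⟩ ?_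
    rw [cj_cj]
    conv_rhs => rw [← cj_eq_of_mem_normalizer ha, cj_cj]
    refine le_of_eq ?_
    congr 1
    group
  have HU : H ≤ Ns U := fun g hg => nU g (le_normalizer hg) (one_mem _) (by simpa using hg)
  have AU : A ≤ Ns U := fun g hg => nU g (AH hg) (AT hg) (by simp)
  obtain ⟨E, hE, nE⟩ : ∃ E, MaxEA 2 R E ∧ ¬ E ≤ Q := by
    by_contra h
    push Not at h
    have := J_eq_of_le (J_le_iff.2 h) QR
    exact n (le_trans (le_inf le_rfl (this ▸ HQ.trans (normalizer_le_normalizer_J Q))) nJ)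
  have cnt := Qrc.count hE (UQ.trans QR) eU (N2.iSup nT)
  set O := Local.resOf 2 H with hO
  have HO : H ≤ Ns O := Local.le_normalizer_resOf H
  have AO : A ≤ Ns O := AH.trans (Local.normalizer_le_normalizer_resOf H)
  set U₀ := U ⊓ Cs O with hU₀
  have HU₀ : H ≤ Ns U₀ := Solv.le_normalizer_inf_centralizer HU HO
  have AU₀ : A ≤ Ns U₀ := Solv.le_normalizer_inf_centralizer AU AO
  have n0 : ¬ U ≤ U₀ := fun h => n (by
    rw [← Local.resOf_sup_sylowIn hR]
    exact sup_le ((le_centralizer_iff.1 ((TU.trans h).trans inf_le_right)).trans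
      (centralizer_le_normalizer _)) RT)
  set U₁ := U ⊓ commStab U₀ Q with hU₁
  have UN : U ≤ Ns U₀ := ea_le_normalizer_of_le eU le_rfl inf_le_left
  have QH : Q ≤ H := QR.trans hR.le
  have l01 : U₀ ≤ U₁ := le_inf inf_le_left (le_commStab le_normalizer
    (Solv.commutator_le_left_of_le_normalizer (QH.trans HU₀)))
  have n1 : ¬ U₁ ≤ U₀ := by
    obtain ⟨u, hu, hu', hc⟩ := Qrc.exists_fix (ea_isPGroup eU) pQ (QH.trans HU) n0
    exact fun h => hu' (h ⟨hu, UN hu, hc⟩)
  have HU₁ : H ≤ Ns U₁ := Solv.le_normalizer_inf HU (le_normalizer_commStab HU₀ HQ)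
  have AU₁ : A ≤ Ns U₁ := Solv.le_normalizer_inf AU (le_normalizer_commStab AU₀ AQ)
  have QK : Q ≤ commStab U₀ U₁ := le_commStab (QH.trans HU₀) (by
    rw [commutator_comm]; exact commutator_le_of_le_commStab inf_le_right)
  set K := H ⊓ commStab U₀ U₁ with hK
  have HK : H ≤ Ns K := Solv.le_normalizer_inf le_normalizer (le_normalizer_commStab HU₀ HU₁)
  have AK : A ≤ Ns K := Solv.le_normalizer_inf AH (le_normalizer_commStab AU₀ AU₁)
  have KR : K ⊔ R ≤ Ns T := by
    refine min _ (lt_of_le_of_ne (sup_le inf_le_left hR.le) fun e => n1 ?_) le_sup_right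
      (Solv.le_normalizer_sup AK AR)
    have h1 : O ≤ K := Local.resOf_le_of_le_sup hR.isPGroup (hR.le.trans HK) e.ge
    have h2 := Local.resOf_le_centralizer_of_commutator_le (E := O) (W := U₁)
      (ea_isPGroup (ea_mono eU (inf_le_left : U₀ ≤ U)))
      (by rw [commutator_comm]; exact commutator_le_of_le_commStab (h1.trans inf_le_right))
      (le_centralizer_iff.1 inf_le_right)
    rw [hO, Local.resOf_resOf] at h2
    exact le_inf inf_le_left (le_centralizer_iff.1 h2)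
  have KQ := core inf_le_left HK (le_sup_left.trans KR)
  have red : Red H U₁ U₀ := fun P PH pP hP => by
    obtain ⟨g, hg, e⟩ := hR.exists_cj_le pP PH
    have h1 : P ⊔ K ≤ K ⊔ R := by
      rw [← cj_eq_of_mem_normalizer (hP hg), cj_sup, cj_eq_of_mem_normalizer (HK hg), sup_comm]
      exact sup_le_sup_left e K
    have h2 := core (sup_le PH inf_le_left) hP (h1.trans KR)
    have h3 : cj g P ≤ Q := le_trans (le_inf (by
      rw [← cj_eq_of_mem_normalizer (hP hg)]; exact cj_mono g le_sup_left) e) h2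
    rw [← cj_eq_of_mem_normalizer (HQ hg), cj_le_cj] at h3
    exact h3.trans QK
  have EH := hE.le.trans hR.le
  have key := sec_n2 hs hB (BA.trans AH) hR.le hR.isPGroup (BA.trans AR) fR
    (ea_mono eU inf_le_left) l01 HU₁ HU₀ (BA.trans AU₁) (BA.trans AU₀) (eq_bot_iff.2 ((inf_le_inf_right _ (inf_le_left.trans (UQ.trans QR))).trans fR.le)) red
    hE.le hE.ea fun h => nE (le_trans (le_inf (le_inf EH h) hE.le) KQ)
  have e1 : (commStab U₀ U₁).relIndex E = Q.relIndex E := by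
    rw [← inf_relIndex_right, ← inf_relIndex_right Q]
    congr 1
    exact le_antisymm (le_inf (le_trans (le_inf (le_inf (inf_le_right.trans EH) inf_le_left)
      (inf_le_right.trans hE.le)) KQ) inf_le_right) (inf_le_inf_right _ QK)
  have e2 : (commStab U₀ E).relIndex U₁ ≤ (Cs E).relIndex U := by
    refine le_trans ?_ (relIndex_le_of_le_right (inf_le_left : U₁ ≤ U) index_ne_zero_of_finite)
    rw [← inf_relIndex_right (Cs E)]
    refine relIndex_le_of_le_left (le_commStab (inf_le_right.trans (inf_le_left.trans UN)) ?_)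
      index_ne_zero_of_finite
    rw [commutator_eq_bot_iff_le_centralizer.2 inf_le_left]
    exact bot_le
  rw [e1] at key
  exact absurd (key.trans_le (e2.trans cnt)) (lt_irrefl _)

end Cfsg.Lib.FPF
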